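import Cfsg.Agent.OD.Pre
import Cfsg.Agent.H6.HNS.C
set_option autoImplicit false
set_option maxRecDepth 100000
set_option Elab.async false
set_option linter.all false
namespace CfH6.HNS
open CfH6
noncomputable def p11X : ℕ := spread 15 4 11 (nat_lit 0x2004423241223442343120233411200403010022243123044143230210341111311321420433040234133044214003314010302121302443400241134422331124324310114024111242143040400302034113103340400432100021211012234423010202140032434243241034420033022203134234224402434330344400240313322114000124222030400334141331421434144004232214022032010403303034142140014240034441434311243124100401340112432100022221123001021134101341242402320342430331204304001221040323400024021021403003300033304412214224103431000224031302443043021330241310443231033432240221132012321344113040412212423443103214430403024430300444120424223133202221231231142104242111022231103130420113241114134443220322201022041441034004434141322140012323211321102424403032012443122334112312412340443010332424310020042413023102410042124234214422310204430024020433013032023011422413144132022413113403303334403042140213423314343223130222010311132203310221242420324013043243404324314300413204212200314040320103033420430400042101104111001034200204311311404333230410032431110232044113012400034032132412312412040313000220441143132413024221434142310211302320120411304432012214101220312132330430013220121021040102434110020243032100334123211144102012111110011413421220400033133200100342223313241344014130132423110133102043033012300100114342030342014102141233400231213331211123412313132222420040213444212430000000000000000000000000000000000000000000000000000000000000000000000000000000000000000000000000000000000000000000000000000001000000)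
end CfH6.HNS
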