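import Cfsg.Agent.OD.Pre
import Cfsg.Agent.H6.HNS.C
set_option autoImplicit false
set_option maxRecDepth 100000
set_option Elab.async false
set_option linter.all false
namespace CfH6.HNS
open CfH6
noncomputable def p19X : ℕ := spread 15 4 12 (Tr.cat (Tr.n (Tr.l (nat_lit 0x10411214424441441400211320423310143430312022032240342201031411113004444231033341434422421303241034344032143304402201120303212410024001441223411141132404031211241314402222001144044040330441043044243142311022132201423212243323434101201111214132441024230310424144331212402412314131232040244402124403043033332121430444100420204430133332023133241402014110144241231342323203030444110132114230134032204140040233230204102221310440022104333231330443240342123430344142224314143144210040044310413142344334304031243114410404120203134203240143411112100121242112134231402202202002230431001140303200124431241220304341432233434334222314314032232102403331221030040244441034131342202412002301123423421031220412121320040143121001132241333032232301024034223104301014403020022241144441440142324223111433120410310440241321043310344432014323313111110434243442230004031114313231330130321413101122134412440344411243301332041220201012123312301420314011332434233224424244103211334122034341424420421130344444331322123223113343010233042103103240224010313211042204131112342203142004430441303311031004142040320010423123321130314111141100410412131232003103320412044130102303322300131302410312042203321044430314434004044240430120431022234120023100032430400114431103223124443302033120142403230424434221412310123211030331043442021023323241224022121230324223001440242301041211223234201221311431133134041334131012422023204211201130340131110211430042203010423123332422022312210132301014313042434140102412120433422213300303414341400214001424344012103214033111300400314401112120320234120214441143334000230201340132303232042043244342113412233102014342001023420010244234331231303212322223323334034402122241223333033223132230100312143040441443313401441031202442144133032132141321424120033130324402424202022413122320021331022004441332013202043011313120340022201304340244404102430423431100310341334023213140003304402312103142234320222201413403343431100113233100000000000000000000000010000000000000000000000000000000000000000000000000000000000000000000000000000000000000000000000000000000000000))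
 (Tr.l (nat_lit 0x204241103010403113301102341320100440241114432143103422412200204440334120013020123110221213243321340101002222421442132031144401324443002443010442213200300342003210411324343412412401034403323200021102004324133343302022320221304314021124100424343023132021043144100000340224144110002120032310411420021223432422021323403101334044030331324311143412122432344232202303222201220102022401132242423233212424244214220414233212232332111202104431220242102320421331433213342001203420243003221))) (nat_lit 8192))
end CfH6.HNS
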