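import Cfsg.Agent.OD.Pre
import Cfsg.Agent.H6.HNS.C
set_option autoImplicit false
set_option maxRecDepth 100000
set_option Elab.async false
set_option linter.all false
namespace CfH6.HNS
open CfH6
noncomputable def p7X : ℕ := spread 15 4 10 (nat_lit 0x3024130212430404420443022142101314203310311420443222123132340130210133123124144210122020103224130204420430324002240040244242231213330002241120043111321432321322331224030333304202231131001444244333432110231424342312333411433301141332004431342144432003143441111010023204241100444443042103040132342240422224032112433403243321320213030444023231034410144013301423442021321230232233033143234024141343433331131423423131011040100310131403241414234131444410434011010241341333212000331330104032033243443234034333404410311120142030412400412343101243220040240444102423004312020024441212300334220430302301030244014301144033304020240144011310132142341014220300424120401113113031343043343414123330012142231243302101101440332420042301031142234230241411113111233310301133100411200210134330301310110001312243224242410000000000000000000000000000000000000000000000000000000000000000000000000000000000000000000000000000001000000000000000000000000000000)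
end CfH6.HNS
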